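import Cfsg.Prelude.Def_SevenCases
import Cfsg.Agent.GpSp.Iso
import Cfsg.Agent.OddTab.Base
import Cfsg.Agent.SigTab.RestList_m3
import Cfsg.Agent.LieClassical.SympCenter
import Cfsg.Agent.S0270
import Cfsg.Agent.Prune
set_option linter.all false
prune_inst 0x7f00000000000000000000000000000000000000000000000000000000000000000000000000000000000000000000000000000000000000000000000000000000000000000000000000000000000000003fffffffffffffffffffffffffffbeffbdffffffff
open scoped Cfsg.Agent.FastGrp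

-- part: GpSp/Main
section
/-!
# Elements of order `p` with a large symplectic component, `q` even (helper73)

`exists_elt` : if `m_p(Sp_2n(F)) ≥ k ≥ 1`, `F` of characteristic two, `p` odd, there are `y` of order `p` and a normal subgroup
`K ≅ Sp_2m(F)` of `C(y)` with `k (n - m) ≤ n`, `m_p(C(y)) ≥ k` and `m_p(K) ≥ k - 1`.
-/

set_option autoImplicit false
open Cfsg
open scoped Matrix
open Cfsg.Agent.ClassicalGeometry.SympBasic Cfsg.Agent.ClassicalGeometry.SympSiegel

namespace Cfsg.Agent.GpSp.Main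

open Module
open Cfsg.Agent.GpSp.Rep Cfsg.Agent.GpSp.Symp

variable {F : Type*} [Field F] {n : ℕ}

local notation "V" => (Fin n ⊕ Fin n → F)
local notation "G" => Matrix.symplecticGroup (Fin n) F
local notation "f" => sympForm n F

/-- a subgroup of prime index and an element outside generate -/
theorem sup_zpowers_eq_top {A : Type*} [Group A] {p : ℕ} (hp : p.Prime) {B : Subgroup A} (hB : B.index = p) {a : A}
    (ha : a ∉ B) : B ⊔ Subgroup.zpowers a = ⊤ := by
  have h2 : (B ⊔ Subgroup.zpowers a).index ∣ p := hB ▸ Subgroup.index_dvd_of_le le_sup_left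
  rcases (Nat.dvd_prime hp).1 h2 with h3 | h3
  · exact Subgroup.index_eq_one.1 h3
  · exfalso
    have h4 := Subgroup.relIndex_mul_index (le_sup_left : B ≤ B ⊔ Subgroup.zpowers a)
    rw [h3, hB] at h4
    have h5 : B.relIndex (B ⊔ Subgroup.zpowers a) = 1 := Nat.eq_of_mul_eq_mul_right hp.pos (by rw [h4, one_mul])
    exact ha (Subgroup.relIndex_eq_one.1 h5 (le_sup_right (a := B) (Subgroup.mem_zpowers a)))

theorem exists_elt [Finite F] [CharP F 2] {p : ℕ} (hp : p.Prime) (hp2 : p ≠ 2) {k : ℕ} (hk : 1 ≤ k)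
    (h : PRankAtLeast p k G) :
    ∃ (y : G) (K : Subgroup G) (m : ℕ), orderOf y = p ∧ K ≤ Subgroup.centralizer {y} ∧
      (K.subgroupOf (Subgroup.centralizer {y})).Normal ∧ m ≤ n ∧ k * (n - m) ≤ n ∧
      Nonempty (K ≃* Matrix.symplecticGroup (Fin m) F) ∧ PRankAtLeast p k (Subgroup.centralizer {y}) ∧
      PRankAtLeast p (k - 1) K := by
  classical
  have : Fact p.Prime := ⟨hp⟩
  have : Fintype F := Fintype.ofFinite F
  obtain ⟨A, hcA, hexpA, hcard⟩ := h
  have hcA' : ∀ a ∈ A, ∀ b ∈ A, a * b = b * a := fun a ha b hb => by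
    have := hcA.is_comm.comm ⟨a, ha⟩ ⟨b, hb⟩
    exact congrArg Subtype.val this
  have : Fintype A := Fintype.ofFinite A
  have hc : ∀ a b : A, a * b = b * a := fun a b => Subtype.ext (hcA' _ a.2 _ b.2)
  have hexp : ∀ a : A, a ^ p = 1 := fun a => Subtype.ext (hexpA _ a.2)
  obtain ⟨B, hBi, hP, hdim⟩ := exists_small hp hp2 (rep A) (rep_inj A) hc hexp hk hcard
  have hodd : Odd (Nat.card A) := by
    have h1 : IsPGroup p A := fun a => ⟨1, by rw [pow_one]; exact hexp a⟩
    obtain ⟨k, hk⟩ := IsPGroup.iff_card.1 h1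
    rw [hk]
    exact (hp.odd_of_ne_two hp2).pow
  obtain ⟨a, ha⟩ : ∃ a : A, a ∉ B := by
    by_contra hcon
    push Not at hcon
    have h1 : B = ⊤ := (Subgroup.eq_top_iff' _).2 hcon
    rw [h1, Subgroup.index_top] at hBi
    exact hp.one_lt.ne hBi
  have htop := sup_zpowers_eq_top hp hBi ha
  set P := pr (rep A) B with hPdef
  have hcomm : ∀ (b : A) (v : V), (b : G) • P v = P ((b : G) • v) := by
    intro b v
    exact congrArg (fun T : Module.End F V => T v) (pr_commute (rep A) hc B b)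
  have hsit : Sit P (a : G) :=
    { idem := pr_idem (rep A) hodd hc B
      adj := form_pr A B
      comm := hcomm a }
  have hap : (a : G) ^ p = 1 := hexpA _ a.2
  have hfix : ∀ v, (a : G) • P v = P v → P v = 0 := by
    intro v hv
    have h1 : ∀ b ∈ B, rep A b (P v) = P v := fun b hb =>
      congrArg (fun T : Module.End F V => T v) (rho_pr (rep A) hb)
    have h2 := fixed_sup hp hp2 h1 (show rep A a (P v) = P v from hv)
    rw [htop] at h2
    have h3 : av (rep A) ⊤ (P v) = P v := av_of_fixed (rep A) (odd_sub hodd ⊤) h2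
    rw [← h3]
    exact congrArg (fun T : Module.End F V => T v) (top_mul_pr (rep A) hodd hc B)
  obtain ⟨m, hm, ⟨e⟩⟩ := hsit.fixK_equiv
  have hpodd : Odd p := hp.odd_of_ne_two hp2
  have hdim2 : finrank F (LinearMap.range P) + finrank F (LinearMap.range (1 - P)) = 2 * n := by
    have h1 := LinearMap.finrank_range_add_finrank_ker P
    have h2 : LinearMap.ker P = LinearMap.range (1 - P) := by
      ext v
      constructor
      · intro hv
        refine ⟨v, ?_⟩
        change v - P v = v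
        rw [LinearMap.mem_ker.1 hv, sub_zero]
      · intro hv
        exact hsit.P_of_range hv
    rw [h2] at h1
    rw [h1, Module.finrank_fintype_fun_eq_card, Fintype.card_sum, Fintype.card_fin]
    ring
  have hdimV : finrank F V = 2 * n := by
    rw [Module.finrank_fintype_fun_eq_card, Fintype.card_sum, Fintype.card_fin]
    ring
  rw [hdimV] at hdim
  rw [hm] at hdim2
  refine ⟨hsit.elt, fixK P, m, hsit.elt_orderOf hp hap hP hfix, hsit.fixK_le, hsit.fixK_normal hpodd hap hfix,
    by omega, ?_, ⟨e⟩, ?_, ?_⟩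
  · have h1 : finrank F (LinearMap.range P) = 2 * (n - m) := by omega
    rw [h1] at hdim
    nlinarith
  · -- `A` centralises `y`
    have hA : A ≤ Subgroup.centralizer {hsit.elt} := by
      intro b hb
      rw [Subgroup.mem_centralizer_singleton_iff]
      apply ext_smul
      intro v
      rw [mul_smul, mul_smul, hsit.elt_smul, hsit.elt_smul, smul_add', smul_sub', hcomm ⟨b, hb⟩ v]
      congr 1
      rw [← hcomm ⟨b, hb⟩ v, ← mul_smul, ← mul_smul, hcA' b hb a a.2]
    refine ⟨A.subgroupOf _, ⟨⟨?_⟩⟩, ?_, ?_⟩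
    · rintro ⟨⟨x, hx⟩, hx1⟩ ⟨⟨z, hz⟩, hz1⟩
      apply Subtype.ext
      apply Subtype.ext
      exact hcA' x (Subgroup.mem_subgroupOf.1 hx1) z (Subgroup.mem_subgroupOf.1 hz1)
    · rintro ⟨x, hx⟩ hx1
      apply Subtype.ext
      exact hexpA x (Subgroup.mem_subgroupOf.1 hx1)
    · rw [Nat.card_congr (Subgroup.subgroupOfEquivOfLe hA).toEquiv]
      exact hcard
  · have hBK : B.map A.subtype ≤ fixK P := by
      rintro _ ⟨b, hb, rfl⟩ v
      exact congrArg (fun T : Module.End F V => T v) (rho_pr (rep A) hb)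
    refine ⟨(B.map A.subtype).subgroupOf _, ⟨⟨?_⟩⟩, ?_, ?_⟩
    · rintro ⟨⟨x, hx⟩, hx1⟩ ⟨⟨z, hz⟩, hz1⟩
      apply Subtype.ext
      apply Subtype.ext
      obtain ⟨x', -, rfl⟩ := Subgroup.mem_subgroupOf.1 hx1
      obtain ⟨z', -, rfl⟩ := Subgroup.mem_subgroupOf.1 hz1
      exact hcA' _ x'.2 _ z'.2
    · rintro ⟨x, hx⟩ hx1
      apply Subtype.ext
      obtain ⟨x', -, rfl⟩ := Subgroup.mem_subgroupOf.1 hx1
      exact hexpA _ x'.2
    · rw [Nat.card_congr (Subgroup.subgroupOfEquivOfLe hBK).toEquiv,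
        Nat.card_congr (Subgroup.equivMapOfInjective B A.subtype A.subtype_injective).symm.toEquiv]
      have h1 := Subgroup.card_mul_index B
      rw [hBi] at h1
      rw [← h1] at hcard
      obtain ⟨j, rfl⟩ : ∃ j, k = j + 1 := ⟨k - 1, by omega⟩
      rw [pow_succ] at hcard
      exact Nat.le_of_mul_le_mul_right hcard hp.pos

end Cfsg.Agent.GpSp.Main
end

-- part: GpSp/Row
section
/-!
# `PSp_{2m}(q)`, `q` even, is of generic type at every odd prime of `p`-rank at least four (helper73)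

`NonIso` : the fact about isomorphism types (proved in `NotCT`): `PSp_{2m}(q)`, `m ≥ 3`, `q` even, not `Sp_6(2)`, of `p`-rank
at least two, is neither a `C_p`-group nor a `T_p`-group, `p` odd;
`exists_gp`, `not_ct` : the element of `L_p°(G)`;
`row` : the row `psp` of `SigTab.NotCTRows`.
-/

set_option autoImplicit false

namespace Cfsg.Agent.GpSp.Row

open Cfsg Subgroup
open scoped commutatorElement

universe u v

section center

variable {F : Type*} [Field F]

theorem center_eq_bot [CharP F 2] (m : ℕ) : Subgroup.center (Matrix.symplecticGroup (Fin m) F) = ⊥ := by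
  rw [Subgroup.eq_bot_iff_forall]
  intro A hA
  obtain ⟨a, ha⟩ := (LieClassical.SympCenter.mem_center_iff m A).1 hA
  apply Subtype.ext
  rw [ha]
  rcases Nat.eq_zero_or_pos m with rfl | hm
  · ext i j
    rcases i with i | i <;> exact i.elim0
  · have h1 : a * a = 1 := LieClassical.SympCenter.sq_eq_one_of_smul_mem hm (ha ▸ A.2)
    have h2 : a = 1 := by
      rcases mul_self_eq_one_iff.1 h1 with h | h
      · exact h
      · rw [h, CharTwo.neg_eq]
    rw [h2, one_smul]
    rfl

/-- `Sp ≃* PSp` in characteristic two -/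
noncomputable def toPSp (F : Type*) [Field F] [CharP F 2] (m : ℕ) : Matrix.symplecticGroup (Fin m) F ≃* PSp m F :=
  ((QuotientGroup.quotientMulEquivOfEq (center_eq_bot (F := F) m)).trans QuotientGroup.quotientBot).symm

end center

section transport

variable {X : Type u} {Y : Type v} [Group X] [Group Y]

theorem map_centralizer (e : X ≃* Y) (x : X) :
    (centralizer ({x} : Set X)).map e.toMonoidHom = centralizer ({e x} : Set Y) := by
  ext g
  rw [mem_centralizer_singleton_iff]
  constructor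
  · rintro ⟨h, hh, rfl⟩
    have h1 := mem_centralizer_singleton_iff.1 hh
    change e h * e x = e x * e h
    rw [← map_mul, h1, map_mul]
  · intro hg
    refine ⟨e.symm g, ?_, by simp⟩
    rw [SetLike.mem_coe, mem_centralizer_singleton_iff]
    apply e.injective
    rw [map_mul, map_mul, e.apply_symm_apply]
    exact hg

theorem rank_map (e : X ≃* Y) {p k : ℕ} {H : Subgroup X} (h : PRankAtLeast p k H) :
    PRankAtLeast p k (H.map e.toMonoidHom) :=
  CpQuot.Congr.prankAtLeast_of (e.subgroupMap H) h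

theorem rank_of_le {p k : ℕ} {H K : Subgroup X} (hle : H ≤ K) (h : PRankAtLeast p k H) : PRankAtLeast p k K := by
  obtain ⟨A, hA, hAe, hc⟩ := h
  refine ⟨A.map (Subgroup.inclusion hle), ⟨⟨?_⟩⟩, ?_, ?_⟩
  · rintro ⟨_, a, ha, rfl⟩ ⟨_, b, hb, rfl⟩
    apply Subtype.ext
    have := hA.is_comm.comm ⟨a, ha⟩ ⟨b, hb⟩
    have h1 : a * b = b * a := congrArg Subtype.val this
    change Subgroup.inclusion hle a * Subgroup.inclusion hle b = Subgroup.inclusion hle b * Subgroup.inclusion hle a
    rw [← map_mul, h1, map_mul]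
  · rintro _ ⟨a, ha, rfl⟩
    rw [← map_pow, hAe a ha, map_one]
  · rw [Nat.card_congr (Subgroup.equivMapOfInjective A _ (Subgroup.inclusion_injective hle)).symm.toEquiv]
    exact hc

theorem rank_top {p k : ℕ} {H : Subgroup X} (h : PRankAtLeast p k H) : PRankAtLeast p k X :=
  CpQuot.Congr.prankAtLeast_of Subgroup.topEquiv (rank_of_le le_top h)

end transport

/-- The element `y` of order `p` and the normal subgroup `K` of `C(y)`, in a group isomorphic to `PSp_2n(F)`. -/
theorem exists_elt {F : Type*} [Field F] [Finite F] [CharP F 2] {n p : ℕ} (hp : p.Prime) (hp2 : p ≠ 2) {k : ℕ}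
    (hk : 1 ≤ k) {G : Type u} [Group G] (e : G ≃* PSp n F) (h : PRankAtLeast p k G) :
    ∃ (y : G) (K : Subgroup G) (m : ℕ), orderOf y = p ∧ K ≤ centralizer ({y} : Set G) ∧
      (∀ g ∈ centralizer ({y} : Set G), ∀ x ∈ K, g * x * g⁻¹ ∈ K) ∧ m ≤ n ∧ k * (n - m) ≤ n ∧
      Nonempty (K ≃* PSp m F) ∧ PRankAtLeast p k (centralizer ({y} : Set G)) ∧ PRankAtLeast p (k - 1) K := by
  let e' : Matrix.symplecticGroup (Fin n) F ≃* G := (toPSp F n).trans e.symm
  obtain ⟨y, K, m, hy, hle, hno, hmn, hkn, ⟨i⟩, hr1, hr2⟩ :=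
    Main.exists_elt hp hp2 hk (CpQuot.Congr.prankAtLeast_of e'.symm h)
  refine ⟨e' y, K.map e'.toMonoidHom, m, ?_, ?_, ?_, hmn, hkn, ?_, ?_, rank_map e' hr2⟩
  · rw [← hy]
    exact orderOf_injective e'.toMonoidHom e'.injective y
  · rw [← map_centralizer]
    exact Subgroup.map_mono hle
  · rw [← map_centralizer]
    rintro _ ⟨g, hg, rfl⟩ _ ⟨x, hx, rfl⟩
    have h1 := hno.conj_mem ⟨x, hle hx⟩ (Subgroup.mem_subgroupOf.2 hx) ⟨g, hg⟩
    refine ⟨g * x * g⁻¹, Subgroup.mem_subgroupOf.1 h1, ?_⟩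
    rw [map_mul, map_mul, map_inv]
  · exact ⟨(e'.subgroupMap K).symm.trans (i.trans (toPSp F m))⟩
  · rw [← map_centralizer]
    exact rank_map e' hr1

/-- **The fact about isomorphism types** -/
def NonIso : Prop :=
  ∀ (F : Type) [Field F] [Fintype F] (m p : ℕ), Even (Fintype.card F) → 3 ≤ m → (Fintype.card F = 2 → 4 ≤ m) →
    p.Prime → p ≠ 2 → ∀ (K : Type u) [Group K] [Finite K], Nonempty (K ≃* PSp m F) → ¬ PRankLE p 1 K →
      ¬ InC p K ∧ ¬ InT p K

theorem charP_two {F : Type*} [Field F] [Fintype F] (h : Even (Fintype.card F)) : CharP F 2 := by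
  have h1 : ringChar F = 2 := FiniteField.even_card_iff_char_two.2 (Nat.even_iff.1 h)
  rw [← h1]
  exact ringChar.charP F

section simple

variable {F : Type} [Field F] [Fintype F] {m : ℕ} {K : Type u} [Group K]

theorem finite_psp : Finite (PSp m F) := Quotient.finite _

theorem simple (hm : 3 ≤ m) (e : K ≃* PSp m F) : IsSimpleGroup K :=
  (CpQuot.Congr.isSimple_iff e).2 (S0270.result m (by omega) (fun h => by omega))

omit [Fintype F] in
theorem center_bot [CharP F 2] (e : K ≃* PSp m F) : center K = ⊥ := by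
  rw [← Subgroup.card_eq_one, CpQuot.Congr.card_center (e.trans (toPSp F m).symm), center_eq_bot]
  exact Subgroup.card_bot

omit [Fintype F] in
theorem quoEquiv [CharP F 2] (e : K ≃* PSp m F) : Nonempty (K ⧸ center K ≃* PSp m F) :=
  ⟨((QuotientGroup.quotientMulEquivOfEq (center_bot e)).trans QuotientGroup.quotientBot).trans e⟩

theorem quasisimple [CharP F 2] (hm : 3 ≤ m) (e : K ≃* PSp m F) : IsQuasisimple K := by
  have hs : IsSimpleGroup K := simple hm e
  obtain ⟨e2⟩ := quoEquiv e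
  refine ⟨?_, (CpQuot.Congr.isSimple_iff (e2.trans e.symm)).2 hs⟩
  rw [Group.isPerfect_def]
  rcases (inferInstance : (commutator K).Normal).eq_bot_or_eq_top with h | h
  · exfalso
    have h1 : center K = ⊤ := by
      rw [Subgroup.eq_top_iff']
      intro x
      rw [Subgroup.mem_center_iff]
      intro g
      have h2 : ⁅g, x⁆ ∈ commutator K := Subgroup.commutator_mem_commutator (Subgroup.mem_top g) (Subgroup.mem_top x)
      rw [h, Subgroup.mem_bot, commutatorElement_eq_one_iff_mul_comm] at h2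
      exact h2
    rw [center_bot e] at h1
    exact bot_ne_top h1
  · exact h

theorem known [CharP F 2] (hm : 3 ≤ m) (e : K ≃* PSp m F) : IsKnownSimple' (K ⧸ center K) := by
  obtain ⟨e2⟩ := quoEquiv e
  right; right; right; left
  exact ⟨F, inferInstance, inferInstance, m, by omega, fun h => by omega, ⟨e2⟩⟩

end simple

theorem not_rank_one {X : Type*} [Group X] {p k : ℕ} (hp : p.Prime) (hk : 2 ≤ k) (h : PRankAtLeast p k X) :
    ¬ PRankLE p 1 X := by
  intro h1
  obtain ⟨A, hA, hAe, hc⟩ := h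
  have h2 := h1 A hA hAe
  have h3 : p ^ 1 < p ^ k := Nat.pow_lt_pow_right hp.one_lt (by omega)
  omega

section main

variable {F : Type} [Field F] [Fintype F] {n p : ℕ} {G : Type u} [Group G] [Finite G]

omit [Finite G] in
/-- the data for `L_p°(G)` -/
theorem exists_comp (hF : Even (Fintype.card F)) (hp : p.Prime) (hp2 : p ≠ 2) (hn : 4 ≤ n)
    (hn2 : Fintype.card F = 2 → 5 ≤ n) (e : G ≃* PSp n F) (h : PRankAtLeast p 4 G) :
    ∃ (y : G) (K : Subgroup G) (m : ℕ), orderOf y = p ∧ IsComponentOf K (centralizer ({y} : Set G)) ∧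
      3 ≤ m ∧ (Fintype.card F = 2 → 4 ≤ m) ∧ Nonempty (K ≃* PSp m F) ∧
      PRankAtLeast p 4 (centralizer ({y} : Set G)) ∧ PRankAtLeast p 3 K := by
  have := charP_two hF
  obtain ⟨y, K, m, hy, hle, hno, hmn, hkn, ⟨i⟩, hr1, hr2⟩ := exists_elt hp hp2 (by omega : 1 ≤ 4) e h
  have hm : 3 ≤ m := by omega
  refine ⟨y, K, m, hy, OddTab.isComponentOf_of_normalized hle (quasisimple hm i) hno, hm, ?_, ⟨i⟩, hr1, hr2⟩
  intro h2
  have := hn2 h2
  omega

/-- an element of `L_p°(G)` in `G_p` -/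
theorem exists_gp (hNI : NonIso.{u}) (hF : Even (Fintype.card F)) (hp : p.Prime) (hp2 : p ≠ 2) (hn : 4 ≤ n)
    (hn2 : Fintype.card F = 2 → 5 ≤ n) (e : G ≃* PSp n F) (h : PRankAtLeast p 4 G) : LpoExists p G (InGp p) := by
  have := charP_two hF
  have : Fact p.Prime := ⟨hp⟩
  obtain ⟨y, K, m, hy, hK, hm, hm2, ⟨i⟩, hr1, hr2⟩ := exists_comp hF hp hp2 hn hn2 e h
  have hz : IsPGroup p ↥(center ↥K) := by
    rw [center_bot i]
    exact IsPGroup.of_bot
  have hnr := not_rank_one hp (by omega) hr2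
  have hpK : ¬ (Nat.card ↥K).Coprime p := by
    intro hco
    apply hnr
    intro A hA hAe
    have h1 : (Nat.card A).Coprime p := Nat.Coprime.coprime_dvd_left (Subgroup.card_subgroup_dvd_card A) hco
    have h2 : IsPGroup p A := fun a => ⟨1, Subtype.ext (by rw [pow_one]; exact hAe a a.2)⟩
    obtain ⟨j, hj⟩ := IsPGroup.iff_card.1 h2
    rw [hj] at h1 ⊢
    rcases Nat.eq_zero_or_pos j with rfl | hj0
    · exact Nat.pow_le_pow_right hp.pos (by omega)
    · exact absurd ((Nat.coprime_pow_left_iff hj0 _ _).1 h1)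
        ((Nat.Prime.coprime_iff_not_dvd Fact.out).not.2 (not_not.2 dvd_rfl))
  refine OddTab.lpoExists_of_comp_self hy (by rw [if_neg hp2]; exact hr1) hK hpK hz
    (fun A B _ _ e' hA => (OddTab.inGp_iff e' p).1 hA) ?_
  obtain ⟨h1, h2⟩ := hNI F m p hF hm hm2 hp hp2 ↥K ⟨i⟩ hnr
  exact ⟨quasisimple hm i, hz, known hm i, h1, h2⟩

theorem not_ct (hNI : NonIso.{u}) (hF : Even (Fintype.card F)) (hp : p.Prime) (hp2 : p ≠ 2) (hn : 4 ≤ n)
    (hn2 : Fintype.card F = 2 → 5 ≤ n) (e : G ≃* PSp n F) (h : PRankAtLeast p 4 G) : ¬ LpoAll p G (InCT p) := by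
  intro hall
  obtain ⟨x, hx, hr, K, hK, hP⟩ := exists_gp hNI hF hp hp2 hn hn2 e h
  rcases hall x hx hr K hK with h1 | h1
  · exact hP.2.2.2.1 h1
  · exact hP.2.2.2.2 h1

end main

/-- **The row `psp` of `NotCTRows`**, from the fact about isomorphism types. -/
theorem row (hNI : NonIso.{u}) : SigTab.NotCT.{u} (fun X _ => SigTab.PspEven (fun m q => 4 ≤ m ∧ (q = 2 → 5 ≤ m)) X) := by
  rintro G _ _ ⟨F, _, _, m, hF, ⟨hm, hm2⟩, ⟨e⟩⟩ p ⟨hp, hp2, S, M, -, hM⟩
  exact not_ct hNI hF hp hp2 hm hm2 e (rank_top hM)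

end Cfsg.Agent.GpSp.Row
end
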